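import Groth.Agent.Lib.Kunneth22.Proj
import Groth.Agent.Lib.CohMop.TensorDerived
import Groth.Agent.Lib.CBC10.Edge
import Groth.Agent.Lib.CBC10.Complex
import Groth.Agent.Lib.TensorMod.Dual

/-!
# Cohomology of the pullback of a line bundle along a morphism with trivial higher direct images
-/

set_option autoImplicit false
set_option maxHeartbeats 1000000
set_option backward.isDefEq.respectTransparency false
set_option backward.isDefEq.respectTransparency.types false

universe u

open CategoryTheory CategoryTheory.Limits AlgebraicGeometry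

noncomputable section

namespace Groth.Agent.ProjForm2

open Groth.Agent

variable {X Y : Scheme.{u}}

/-- The two tensoring functors agree. -/
def tenRIso (M : X.Modules) : CohMop.tenR M ≅ M2.tensorR M :=
  NatIso.ofComponents (fun _ => Iso.refl _) fun φ => by
    simp only [Iso.refl_hom, Category.comp_id, Category.id_comp]
    rfl

theorem nonempty_hh_pullback_invertible (f : X ⟶ Y) [HasInjectiveResolutions X.Modules]
    (hR : ∀ i : ℕ, IsZero ((Coh.Rpush f (i + 1)).obj (Coh.structureModule X)))
    (h0 : Nonempty ((Coh.push f).obj (Coh.structureModule X) ≅ Coh.structureModule Y))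
    (L : Y.Modules) (hL : PicF.IsInvertible L) (p : ℕ) :
    Nonempty (Coh.HH X ((Scheme.Modules.pullback f).obj L) p ≃+ Coh.HH Y L p) := by
  obtain ⟨L', _, ⟨e⟩⟩ := M2.exists_inverse hL
  obtain ⟨e0⟩ := h0
  let M := (Scheme.Modules.pullback f).obj L
  have hM : PicF.IsInvertible M := PicLoc.isInvertible_pullback f hL
  let θ : CohMop.tenR M ⋙ Scheme.Modules.pushforward f ≅ Scheme.Modules.pushforward f ⋙ CohMop.tenR L :=
    Functor.isoWhiskerRight (tenRIso M) _ ≪≫ (Kunneth22.projIso f e).symm ≪≫
      Functor.isoWhiskerLeft _ (tenRIso L).symm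
  let u1 : (CohMop.tenR M).obj (Coh.structureModule X) ≅ M :=
    M2.tensorComm _ _ ≪≫ M2.tensorRUnit _
  have hz : ∀ q : ℕ, 0 < q → IsZero ((Coh.Rpush f q).obj M) := by
    intro q hq
    obtain ⟨i, rfl⟩ := Nat.exists_eq_succ_of_ne_zero (Nat.pos_iff_ne_zero.1 hq)
    obtain ⟨d⟩ := CohMop.nonempty_rightDerived_tenR (Scheme.Modules.pushforward f)
      (M2.isFinLocFree_of_isInvertible hM) (M2.isFinLocFree_of_isInvertible hL) θ (i + 1)
      (Coh.structureModule X)
    haveI := CohMop.preservesHomology_tenR (M2.isFinLocFree_of_isInvertible hL)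
    exact (((CohMop.tenR L).map_isZero (hR i)).of_iso d).of_iso ((Coh.Rpush f (i + 1)).mapIso u1).symm
  let eE := AddEquiv.ofBijective _ (CBC10.bijective_pushEdge_of_isZero f M p hz)
  let e1 : (Scheme.Modules.pushforward f).obj M ≅ L :=
    (Scheme.Modules.pushforward f).mapIso u1.symm ≪≫ θ.app _ ≪≫
      (CohMop.tenR L).mapIso e0 ≪≫ M2.tensorComm _ _ ≪≫ M2.tensorRUnit _
  exact ⟨eE.symm.trans (CBC10.hmapEquiv e1 p)⟩

end Groth.Agent.ProjForm2
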